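import Cfsg.Agent.Fg24.PrimeTwoP.Basic
import Cfsg.Agent.SmallOrder.Exceptional
import Cfsg.Agent.Char.FS
import Cfsg.Agent.S0157

/-!
# The exceptional characters of a group of prime degree with `|N(P)| = 2p`

With `π` the permutation character less one, `Ind_P^G (1 - λ) = 1 - π + χ_λ` for irreducible
characters `χ_λ` of degree `p - 2`.  These exhaust the alternating square of `π`, which gives
`fix (g²) = 2 - (fix g - 2)(p - 1 - fix g)` away from the elements of order `p`, so only the
identity fixes three points.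
-/

set_option autoImplicit false

open MulAction
open scoped ComplexConjugate Classical
open Subgroup (normalizer centralizer)

namespace Cfsg.Agent.Fg24.PrimeTwoP

open Cfsg Cfsg.Agent.Char Cfsg.Agent.SmallOrder

universe u

variable {α : Type u} [Fintype α] [DecidableEq α] {p : ℕ} [hp : Fact p.Prime]

set_option maxHeartbeats 1000000 in
theorem fix_relation (hα : Fintype.card α = p) (hp2 : 2 < p) (G : Subgroup (Equiv.Perm α))
    (h2t : IsMultiplyPretransitive G α 2) (P : Subgroup G) (hP : Nat.card P = p)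
    (hC : Nat.card (centralizer (P : Set G)) = p)
    (hN : Nat.card (normalizer (P : Set G)) = 2 * p) (g : G) (hg : orderOf g ≠ p) :
    (Nat.card (fixedBy α (g * g)) : ℤ) =
      2 - ((Nat.card (fixedBy α g) : ℤ) - 2) * ((p : ℤ) - 1 - Nat.card (fixedBy α g)) := by
  classical
  have := Fintype.ofFinite G
  have hpt : IsPretransitive G α := isPretransitive_of_is_two_pretransitive
  set one : G → ℂ := fun _ => 1 with hone
  set π : G → ℂ := fun g => (Nat.card (fixedBy α g) : ℂ) - 1 with hπdef
  have hπ : IsIrrCharacter G π := (S0157.result α (by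
    rw [Nat.card_eq_fintype_card, hα]; exact hp.out.two_le)).mpr h2t
  have hone' : IsIrrCharacter G one := isIrrCharacter_one
  have hππ : classInner π π = 1 := classInner_irr_self hπ
  have h11 : classInner one one = 1 := classInner_irr_self hone'
  have hfix1 : Nat.card (fixedBy α (1 : G)) = p := by
    rw [← hα, ← Nat.card_eq_fintype_card]
    exact Nat.card_congr (Equiv.subtypeUnivEquiv fun a => one_smul G a)
  have hπone : π ≠ one := by
    intro h
    have h1 : (p : ℂ) - 1 = 1 := by
      have := congrFun h 1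
      simp only [hπdef, hone, hfix1] at this
      exact this
    have : (p : ℂ) = (2 : ℕ) := by push_cast; linear_combination h1
    exact absurd (Nat.cast_injective this) (by omega)
  have hπ1 : classInner π one = 0 := classInner_irr_ne hπ hone' hπone
  have h1π : classInner one π = 0 := classInner_irr_ne hone' hπ (Ne.symm hπone)
  have hp0 : (p : ℂ) ≠ 0 := Nat.cast_ne_zero.2 hp.out.ne_zero
  -- elements of `P`
  have hPord : ∀ x : P, x ≠ 1 → orderOf (x : G) = p := fun x hx => by
    rw [Subgroup.orderOf_coe]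
    exact ((Nat.dvd_prime hp.out).1 (hP ▸ orderOf_dvd_natCard x)).resolve_left
      fun e => hx (orderOf_eq_one_iff.1 e)
  have hπP : ∀ x : P, x ≠ 1 → π (x : G) = -1 := fun x hx => by
    have : IsEmpty (fixedBy α (x : G)) :=
      ⟨fun a => not_fix_of_orderOf hα (hPord x hx) a.1 a.2⟩
    simp only [hπdef, Nat.card_of_isEmpty, Nat.cast_zero, zero_sub]
  have hzero : ∀ (f : P →* ℂˣ) (y : G), orderOf y ≠ p → gam f y = 0 := by
    intro f y hy
    by_cases hy1 : y = 1
    · rw [hy1, gam_one]
    refine indFun_apply_eq_zero P _ fun x hx => ?_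
    have hne : (⟨x⁻¹ * y * x, hx⟩ : P) ≠ 1 := fun e => hy1 (by
      have := congrArg Subtype.val e
      calc y = x * (x⁻¹ * y * x) * x⁻¹ := by group
        _ = 1 := by simp [show x⁻¹ * y * x = 1 from this])
    refine hy ?_
    rw [← hPord _ hne]
    exact (orderOf_injective (MulAut.conj x⁻¹).toMonoidHom (MulAut.conj x⁻¹).injective y).symm.trans
      (by simp)
  have hgπ : ∀ f : P →* ℂˣ, f ≠ 1 → classInner (gam f) π = -1 := by
    intro f hf
    rw [gam, classInner_indFun_left P _ (isClassFunction_of_isIrr hπ), classInner]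
    have hterm : ∀ x : P, oneSub f x * conj (π (x : G)) = -(1 : ℂ) + (f x : ℂ) := by
      intro x
      by_cases hx : x = 1
      · subst hx; simp [oneSub]
      · rw [hπP x hx]; simp [oneSub]; ring
    rw [Finset.sum_congr rfl fun x _ => hterm x, Finset.sum_add_distrib, sum_hom, if_neg hf]
    simp [hP, hp0, Finset.card_univ, ← Nat.card_eq_fintype_card]
  -- the exceptional characters
  set Λ := {f : P →* ℂˣ // f ≠ 1} with hΛ
  let χ : Λ → G → ℂ := fun f => gam f.1 - one + π
  let Nf : Λ → Λ → Prop := fun f g => ∃ n : normalizer (P : Set G),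
    g.1.comp (P.normalizerMonoidHom n⁻¹).toMonoidHom = f.1
  have hinj : ∀ g : Λ, Function.Injective g.1 := by
    intro g
    rw [← MonoidHom.ker_eq_bot_iff]
    have : Fact (Nat.card P).Prime := ⟨hP.symm ▸ hp.out⟩
    rcases g.1.ker.eq_bot_or_eq_top_of_prime_card with h | h
    · exact h
    · exact absurd (MonoidHom.ext fun x => MonoidHom.mem_ker.1
        (h ▸ Subgroup.mem_top x : x ∈ g.1.ker)) g.2
  have hcount : ∀ f g : Λ, Nf f g → Nat.card {n : normalizer (P : Set G) //
      g.1.comp (P.normalizerMonoidHom n⁻¹).toMonoidHom = f.1} = p := by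
    rintro f g ⟨n₀, hn₀⟩
    have hiff : ∀ n, g.1.comp (P.normalizerMonoidHom n⁻¹).toMonoidHom = f.1 ↔
        n₀ * n⁻¹ ∈ P.normalizerMonoidHom.ker := by
      intro n
      rw [MonoidHom.mem_ker, map_mul, ← hn₀]
      constructor
      · intro h
        have h1 : P.normalizerMonoidHom n⁻¹ = P.normalizerMonoidHom n₀⁻¹ :=
          MulEquiv.ext fun x => hinj g (DFunLike.congr_fun h x)
        rw [h1, ← map_mul, mul_inv_cancel, map_one]
      · intro h
        have h1 : P.normalizerMonoidHom n⁻¹ = P.normalizerMonoidHom n₀⁻¹ := by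
          rw [map_inv P.normalizerMonoidHom n₀, eq_inv_of_mul_eq_one_right h]
        rw [h1]
    rw [Nat.card_congr ((Equiv.subtypeEquiv ((Equiv.inv _).trans (Equiv.mulLeft n₀)) fun n => by
      rw [hiff]; rfl) : _ ≃ P.normalizerMonoidHom.ker), Subgroup.normalizerMonoidHom_ker,
      Nat.card_congr (Subgroup.subgroupOfEquivOfLe (Subgroup.centralizer_le_normalizer _)).toEquiv,
      hC]
  have hin : ∀ f g : Λ, classInner (gam (G := G) f.1) (gam g.1) = 2 + if Nf f g then 1 else 0 := by
    intro f g
    rw [classInner_gam hP f.1 g.1 f.2 g.2, hN]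
    split_ifs with h
    · rw [hcount f g h]; push_cast; field_simp
    · rw [show Nat.card {n : normalizer (P : Set G) //
        g.1.comp (P.normalizerMonoidHom n⁻¹).toMonoidHom = f.1} = 0 by
        rw [Nat.card_eq_zero]; exact Or.inl ⟨fun n => h ⟨n.1, n.2⟩⟩]
      push_cast; field_simp; ring
  have hNrefl : ∀ f : Λ, Nf f f := fun f => ⟨1, by rw [inv_one, map_one]; rfl⟩
  have hg1 : ∀ f : Λ, classInner (gam (G := G) f.1) one = 1 := fun f => classInner_gam_one f.1 f.2
  have h1g : ∀ f : Λ, classInner one (gam (G := G) f.1) = 1 := fun f => by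
    rw [← classInner_conj_symm, hg1, map_one]
  have hπg : ∀ f : Λ, classInner π (gam (G := G) f.1) = -1 := fun f => by
    rw [← classInner_conj_symm, hgπ f.1 f.2, map_neg, map_one]
  have hχnorm : ∀ f : Λ, classInner (χ f) (χ f) = 1 := fun f => by
    have hff := hin f f
    rw [if_pos (hNrefl f)] at hff
    simp only [χ, classInner_add_left, classInner_add_right, classInner_sub_left,
      classInner_sub_right, hff, hg1, h1g, hgπ f.1 f.2, hπg, h11, hππ, hπ1, h1π]
    ring
  have hχ1 : ∀ f : Λ, χ f 1 = ((p - 2 : ℕ) : ℂ) := fun f => by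
    simp only [χ, hone, hπdef, Pi.add_apply, Pi.sub_apply, gam_one, hfix1,
      Nat.cast_sub hp.out.two_le, Nat.cast_ofNat]
    ring
  have hχirr : ∀ f : Λ, IsIrrCharacter G (χ f) := fun f =>
    IsGen.isIrr_of_norm_one
      (isGeneralized_add (isGeneralized_sub (isGeneralized_gam f.1)
        (isGeneralized_of_isCharacter (IsIrr.isCharacter hone')))
        (isGeneralized_of_isCharacter (IsIrr.isCharacter hπ)))
      (hχnorm f) (by rw [hχ1, Complex.natCast_re]; exact_mod_cast (by omega : 0 < p - 2))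
  -- how many there are
  have hcyc : IsCyclic P := isCyclic_of_prime_card hP
  letI : CommGroup P := IsMulCommutative.instCommGroup
  have : NeZero (Monoid.exponent P : ℂ) := ⟨Nat.cast_ne_zero.2 Monoid.exponent_ne_zero_of_finite⟩
  have hfin : Finite (P →* ℂˣ) := Nat.finite_of_card_ne_zero
    (by rw [CommGroup.card_monoidHom_of_hasEnoughRootsOfUnity P ℂ, hP]; exact hp.out.ne_zero)
  have := Fintype.ofFinite (P →* ℂˣ)
  have hΛc : Fintype.card Λ = p - 1 := by
    rw [Fintype.card_subtype_compl, Fintype.card_subtype_eq, ← Nat.card_eq_fintype_card,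
      CommGroup.card_monoidHom_of_hasEnoughRootsOfUnity P ℂ, hP]
  let T : Finset (IrrCharacter G) := Finset.univ.image fun f : Λ => (⟨χ f, hχirr f⟩ : IrrCharacter G)
  have hT : p - 1 ≤ 2 * T.card := by
    rw [← hΛc, ← Finset.card_univ]
    refine Finset.card_le_mul_card_image _ 2 fun b hb => ?_
    obtain ⟨f, -, rfl⟩ := Finset.mem_image.1 hb
    -- conjugates of `f` are indexed by the two cosets of `P` in its normaliser
    let R := (P.normalizerMonoidHom).range
    have hR : Nat.card R = 2 := by
      have h1 := (P.normalizerMonoidHom).ker.index_mul_card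
      rw [Subgroup.index_ker, Subgroup.normalizerMonoidHom_ker,
        Nat.card_congr (Subgroup.subgroupOfEquivOfLe (Subgroup.centralizer_le_normalizer _)).toEquiv,
        hC, hN] at h1
      exact Nat.eq_of_mul_eq_mul_right hp.out.pos h1
    refine le_trans (Finset.card_le_card (t := Finset.univ.filter fun g : Λ => ∃ r : R,
      g.1.comp (r : MulAut P).toMonoidHom = f.1) ?_) ?_
    · intro g hgmem
      obtain ⟨-, he⟩ := Finset.mem_filter.1 hgmem
      refine Finset.mem_filter.2 ⟨Finset.mem_univ _, ?_⟩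
      have heq : gam (G := G) g.1 = gam f.1 := by
        have := congrArg Subtype.val he
        simpa [χ] using this
      have hfg := hin f g
      rw [heq, hin f f, if_pos (hNrefl f)] at hfg
      by_cases hn : Nf f g
      · obtain ⟨n, hn⟩ := hn
        exact ⟨⟨_, n⁻¹, rfl⟩, hn⟩
      · rw [if_neg hn] at hfg
        norm_num at hfg
    · rw [← hR, Nat.card_eq_fintype_card, ← Finset.card_univ]
      refine Finset.card_le_card_of_surjOn
        (fun r : R => if h : f.1.comp ((r : MulAut P)⁻¹).toMonoidHom ≠ 1 then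
          (⟨f.1.comp ((r : MulAut P)⁻¹).toMonoidHom, h⟩ : Λ) else f) ?_
      intro g hg
      obtain ⟨-, r, hr⟩ := Finset.mem_filter.1 hg
      have e : f.1.comp ((r : MulAut P)⁻¹).toMonoidHom = g.1 := by
        rw [← hr]
        ext x
        simp
      refine ⟨r, Finset.mem_coe.2 (Finset.mem_univ _), ?_⟩
      simp only [e, ne_eq, g.2, not_false_eq_true, dite_true]
      exact Subtype.ext rfl
  -- the alternating square
  obtain ⟨s, a, hs, ha, hmul, hsq⟩ := exists_sym_alt (IsIrr.isCharacter hπ)
  obtain ⟨i, hi⟩ := classInner_isCharacter_eq_natCast hs (isCharacter_one (G := G))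
  obtain ⟨j, hj⟩ := classInner_isCharacter_eq_natCast ha (isCharacter_one (G := G))
  have hij : (i : ℂ) + j = 1 := by
    rw [← hi, ← hj, ← classInner_add_left, ← hmul]
    refine Eq.trans ?_ hππ
    simp only [classInner, Pi.mul_apply, map_one, mul_one, hπdef, map_sub, Complex.conj_natCast]
  have hj0 : j = 0 := by
    by_contra hj0
    have hij' : i + j = 1 := by exact_mod_cast hij
    have hi0 : i = 0 := by omega
    have hfs : (Nat.card G : ℂ)⁻¹ * ∑ y : G, π (y * y) = -1 := by
      have : (i : ℂ) - j = -1 := by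
        rw [hi0, show j = 1 by omega]; norm_num
      rw [← this, ← hi, ← hj, ← classInner_sub_left]
      simp [classInner, hsq]
    have hle : ∀ y : G, Nat.card (fixedBy α y) ≤ Nat.card (fixedBy α (y * y)) := fun y =>
      Nat.card_le_card_of_injective (fun x => ⟨x.1, by
        show (y * y) • x.1 = x.1
        rw [mul_smul, x.2, x.2]⟩) fun x x' h => Subtype.ext (congrArg (fun z => z.1) h)
    have hsum : ∑ y : G, π y = 0 := by
      have := hπ1
      simp only [classInner, hone, map_one, mul_one] at this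
      exact (mul_eq_zero.1 this).resolve_left (inv_ne_zero (Nat.cast_ne_zero.2 Nat.card_pos.ne'))
    have hval : ∑ y : G, π (y * y) = -(Nat.card G : ℂ) := by
      rw [← neg_one_mul, ← hfs]
      field_simp [Nat.cast_ne_zero.2 (Nat.card_pos (α := G)).ne']
    simp only [hπdef, Finset.sum_sub_distrib, Finset.sum_const, Finset.card_univ, nsmul_eq_mul,
      mul_one, ← Nat.card_eq_fintype_card, sub_eq_zero] at hsum hval
    have h0 : ∑ y : G, Nat.card (fixedBy α (y * y)) = 0 := by
      have : ((∑ y : G, Nat.card (fixedBy α (y * y)) : ℕ) : ℂ) = 0 := by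
        push_cast; linear_combination hval
      exact_mod_cast this
    have h1 : ∑ y : G, Nat.card (fixedBy α y) = Nat.card G := by exact_mod_cast hsum
    have := (Finset.sum_le_sum fun y _ => hle y).trans h0.le
    rw [h1] at this
    exact absurd this (not_le.mpr Nat.card_pos)
  have haχ : ∀ f : Λ, ∀ m : ℕ, classInner a (χ f) = m → 1 ≤ m := by
    intro f m hm
    obtain ⟨k, hk⟩ := classInner_isCharacter_eq_natCast ha (IsIrr.isCharacter hπ)
    have hgam : classInner a (gam (G := G) f.1) = 1 := by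
      rw [← classInner_conj_symm, gam, classInner_indFun_left P _ (isClassFunction_of_isCharacter ha),
        classInner]
      have hterm : ∀ x : P, oneSub f.1 x * conj (a (x : G)) = 1 - (f.1 x : ℂ) := by
        intro x
        by_cases hx : x = 1
        · subst hx; simp [oneSub]
        · have hx2 : x * x ≠ 1 := fun e => by
            have h1 := orderOf_dvd_of_pow_eq_one (x := (x : G)) (n := 2)
              (by rw [pow_two]; exact congrArg Subtype.val e)
            rw [hPord x hx] at h1
            have := Nat.le_of_dvd two_pos h1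
            omega
          have h1 : π ((x : G) * (x : G)) = -1 := by rw [← hπP (x * x) hx2, Subgroup.coe_mul]
          have h2 := congrFun hmul (x : G)
          have h3 := hsq (x : G)
          rw [Pi.mul_apply, Pi.add_apply, hπP x hx] at h2
          rw [h1] at h3
          have : a (x : G) = 1 := by linear_combination (-(1 / 2) : ℂ) * h2 + (1 / 2 : ℂ) * h3
          rw [this, map_one, mul_one, oneSub]
      rw [Finset.sum_congr rfl fun x _ => hterm x, Finset.sum_sub_distrib, sum_hom, if_neg f.2]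
      simp [hP, hp0, Finset.card_univ, ← Nat.card_eq_fintype_card]
    have : (m : ℂ) = ((1 + k : ℕ) : ℂ) := by
      rw [← hm]
      simp only [χ, classInner_add_right, classInner_sub_right, hgam]
      rw [show one = fun _ => (1 : ℂ) from rfl, hj, hj0, hk]
      push_cast; ring
    have := Nat.cast_injective this
    omega
  obtain ⟨m, hm, hexp, -⟩ := IsChar.exists_mult ha
  have hT1 : ∀ ψ ∈ T, 1 ≤ m ψ ∧ (ψ : G → ℂ) 1 = ((p - 2 : ℕ) : ℂ) := by
    intro ψ hψ
    obtain ⟨f, -, rfl⟩ := Finset.mem_image.1 hψ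
    exact ⟨haχ f (m ⟨χ f, hχirr f⟩) (hm ⟨χ f, hχirr f⟩), hχ1 f⟩
  choose d hd0 hd using fun ψ : IrrCharacter G => IsIrr.degree ψ.2
  have hdeg : 2 * ∑ ψ, m ψ * d ψ = (p - 1) * (p - 2) := by
    have h2 := congrFun hmul 1
    have h3 := hsq 1
    rw [Pi.mul_apply, Pi.add_apply] at h2
    rw [one_mul] at h3
    have h4 : (2 : ℂ) * a 1 = π 1 * π 1 - π 1 := by linear_combination h3 - h2
    rw [show π 1 = (p : ℂ) - 1 by simp only [hπdef, hfix1]] at h4
    have h5 : a 1 = ((∑ ψ, m ψ * d ψ : ℕ) : ℂ) := by
      rw [hexp, Finset.sum_apply]; push_cast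
      exact Finset.sum_congr rfl fun ψ _ => by simp [hd]
    rw [h5] at h4
    have h6 : ((2 * ∑ ψ, m ψ * d ψ : ℕ) : ℂ) = (((p - 1) * (p - 2) : ℕ) : ℂ) := by
      rw [Nat.cast_mul, Nat.cast_mul (p - 1), Nat.cast_sub hp.out.two_le,
        Nat.cast_sub hp.out.one_lt.le]
      push_cast at h4 ⊢
      linear_combination h4
    exact_mod_cast h6
  have hTd : ∀ ψ ∈ T, d ψ = p - 2 := fun ψ hψ =>
    Nat.cast_injective (R := ℂ) ((hd ψ).symm.trans (hT1 ψ hψ).2)
  have hTsum : T.card * (p - 2) ≤ ∑ ψ ∈ T, m ψ * d ψ := by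
    rw [← smul_eq_mul, ← Finset.sum_const]
    exact Finset.sum_le_sum fun ψ hψ => by
      rw [hTd ψ hψ]; exact Nat.le_mul_of_pos_left _ (hT1 ψ hψ).1
  have hsplit : ∑ ψ ∈ T, m ψ * d ψ + ∑ ψ ∈ Tᶜ, m ψ * d ψ = ∑ ψ, m ψ * d ψ :=
    Finset.sum_add_sum_compl T _
  have hTc : 2 * (T.card * (p - 2)) ≥ (p - 1) * (p - 2) := by
    rw [← mul_assoc]; exact Nat.mul_le_mul_right _ hT
  have hTc2 : 2 * T.card = p - 1 := by
    refine le_antisymm ?_ hT
    refine Nat.le_of_mul_le_mul_right (c := p - 2) ?_ (by omega)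
    rw [mul_assoc]; omega
  have hrest : ∀ ψ, ψ ∉ T → m ψ = 0 := by
    intro ψ hψ
    have h0 : ∑ ψ ∈ Tᶜ, m ψ * d ψ = 0 := by omega
    have := (Finset.sum_eq_zero_iff.1 h0) ψ (Finset.mem_compl.2 hψ)
    rcases Nat.mul_eq_zero.1 this with h | h
    · exact h
    · exact absurd h (hd0 ψ).ne'
  have hone_m : ∀ ψ ∈ T, m ψ = 1 := by
    have h0 : ∑ ψ ∈ T, m ψ * d ψ ≤ T.card * (p - 2) := by omega
    intro ψ hψ
    refine le_antisymm ?_ (hT1 ψ hψ).1
    by_contra hlt
    push Not at hlt
    have : T.card * (p - 2) < ∑ ψ ∈ T, m ψ * d ψ := by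
      rw [← smul_eq_mul, ← Finset.sum_const]
      refine Finset.sum_lt_sum (fun φ hφ => ?_) ⟨ψ, hψ, ?_⟩
      · rw [hTd φ hφ]; exact Nat.le_mul_of_pos_left _ (hT1 φ hφ).1
      · rw [hTd ψ hψ]; exact (lt_mul_iff_one_lt_left (by omega)).2 hlt
    omega
  -- evaluate at `g`
  have hag : a g = (T.card : ℂ) * (π g - 1) := by
    rw [hexp, Finset.sum_apply, ← Finset.sum_subset (Finset.subset_univ T) (fun ψ _ hψ => by
      simp [hrest ψ hψ]), Finset.sum_congr rfl (g := fun _ => π g - 1) fun ψ hψ => ?_,
      Finset.sum_const, nsmul_eq_mul]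
    obtain ⟨f, -, rfl⟩ := Finset.mem_image.1 hψ
    rw [hone_m _ hψ, Nat.cast_one, one_smul]
    simp only [χ, hone, Pi.add_apply, Pi.sub_apply, hzero f.1 g hg]
    ring
  have h2 := congrFun hmul g
  have h3 := hsq g
  rw [Pi.mul_apply, Pi.add_apply] at h2
  have h4 : π g * π g - π (g * g) = (p - 1 : ℂ) * (π g - 1) := by
    have : ((2 * T.card : ℕ) : ℂ) = ((p - 1 : ℕ) : ℂ) := by rw [hTc2]
    rw [Nat.cast_mul, Nat.cast_sub hp.out.one_lt.le] at this
    push_cast at this
    linear_combination h2 - h3 + 2 * hag + (π g - 1) * this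
  simp only [hπdef] at h4
  have h5 : ((Nat.card (fixedBy α (g * g)) : ℤ) : ℂ) =
      ((2 - ((Nat.card (fixedBy α g) : ℤ) - 2) * ((p : ℤ) - 1 - Nat.card (fixedBy α g)) : ℤ) : ℂ) := by
    push_cast
    linear_combination -h4
  exact_mod_cast h5

/-- Only the identity fixes three points. -/
theorem three_free (hα : Fintype.card α = p) (hp2 : 2 < p) (G : Subgroup (Equiv.Perm α))
    (h2t : IsMultiplyPretransitive G α 2) (P : Subgroup G) (hP : Nat.card P = p)
    (hC : Nat.card (centralizer (P : Set G)) = p)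
    (hN : Nat.card (normalizer (P : Set G)) = 2 * p) (g : G) (x y z : α) (hxy : x ≠ y)
    (hyz : y ≠ z) (hxz : x ≠ z) (hx : g • x = x) (hy : g • y = y) (hz : g • z = z) : g = 1 := by
  classical
  by_contra hg1
  have hgp : orderOf g ≠ p := fun h => not_fix_of_orderOf hα h x hx
  have hrel := fix_relation hα hp2 G h2t P hP hC hN g hgp
  have h3 : 3 ≤ Nat.card (fixedBy α g) := by
    rw [Nat.card_coe_set_eq, ← Set.ncard_eq_three.mpr ⟨x, y, z, hxy, hxz, hyz, rfl⟩]
    exact Set.ncard_le_ncard (by rintro w (rfl | rfl | rfl) <;> assumption)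
  have hle : Nat.card (fixedBy α g) ≤ Nat.card (fixedBy α (g * g)) :=
    Nat.card_le_card_of_injective (fun w => ⟨w.1, by
      show (g * g) • w.1 = w.1
      rw [mul_smul, w.2, w.2]⟩) fun w w' h => Subtype.ext (congrArg (fun v => v.1) h)
  have hp' : Nat.card (fixedBy α g) + 2 ≤ p := by
    have h1 := Equiv.Perm.two_le_card_support_of_ne_one
      (show (g : Equiv.Perm α) ≠ 1 from fun h => hg1 (Subtype.ext h))
    have h2 : Nat.card (fixedBy α g) = p - (g : Equiv.Perm α).support.card := by
      rw [← hα, ← Finset.card_compl, Nat.card_eq_fintype_card, ← Set.toFinset_card]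
      congr 1
      ext w
      simp [Subgroup.smul_def]
    omega
  have : (0 : ℤ) < ((Nat.card (fixedBy α g) : ℤ) - 2) * ((p : ℤ) - 1 - Nat.card (fixedBy α g)) :=
    mul_pos (by omega) (by omega)
  omega

end Cfsg.Agent.Fg24.PrimeTwoP
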