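import Mathlib

/-!
# Prime degree, Sylow normaliser of order `2p`: elementary facts
-/

set_option autoImplicit false

open Subgroup MulAction

namespace Cfsg.Agent.Fg24.PrimeTwoP

variable {α : Type*} [Fintype α] [DecidableEq α] {p : ℕ} [hp : Fact p.Prime]
  (hα : Fintype.card α = p) {G : Subgroup (Equiv.Perm α)}
include hα

theorem not_fix_of_orderOf {g : G} (hg : orderOf g = p) (a : α) : g • a ≠ a := by
  intro ha
  have hg' : orderOf (g : Equiv.Perm α) = p := (Subgroup.orderOf_coe g).trans hg
  have hsc := Equiv.Perm.isCycle_of_prime_order' (by rw [hg']; exact hp.out)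
    (by rw [hg', hα]; have := hp.out.two_le; omega)
  have hsupp : (g : Equiv.Perm α).support = Finset.univ := by
    apply Finset.eq_univ_of_card
    rw [← hsc.orderOf, hg', hα]
  exact Equiv.Perm.mem_support.1 (hsupp ▸ Finset.mem_univ a) ha

theorem card_sylow (hp2 : 2 < p) (P : Sylow p G)
    (hN : Nat.card (normalizer ((P : Subgroup G) : Set G)) = 2 * p) :
    Nat.card (P : Subgroup G) = p := by
  obtain ⟨k, hk⟩ := IsPGroup.iff_card.1 P.isPGroup'
  have hpG : p ∣ Nat.card G :=
    ((dvd_mul_left p 2).trans hN.symm.dvd).trans (card_subgroup_dvd_card _)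
  have h1 := P.dvd_card_of_dvd_card hpG
  have h2 : Nat.card (P : Subgroup G) ∣ 2 * p := hN ▸ card_dvd_of_le le_normalizer
  refine Nat.dvd_antisymm (Nat.Coprime.dvd_of_dvd_mul_left ?_ h2) h1
  rw [hk]
  exact Nat.Coprime.pow_left _ ((Nat.coprime_primes hp.out Nat.prime_two).mpr (by omega))

theorem pretransitive (hp2 : 2 < p) (P : Sylow p G)
    (hN : Nat.card (normalizer ((P : Subgroup G) : Set G)) = 2 * p) : IsPretransitive G α := by
  obtain ⟨x, hx⟩ := exists_prime_orderOf_dvd_card' (G := (P : Subgroup G)) p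
    (card_sylow hα hp2 P hN).symm.dvd
  have hx' : orderOf (((x : G)) : Equiv.Perm α) = p := by
    rw [Subgroup.orderOf_coe, Subgroup.orderOf_coe, hx]
  refine ⟨fun a b => ?_⟩
  have hsc := Equiv.Perm.isCycle_of_prime_order' (by rw [hx']; exact hp.out)
    (by rw [hx', hα]; omega)
  obtain ⟨i, hi⟩ := hsc.exists_zpow_eq
    (not_fix_of_orderOf hα (g := (x : G)) (by rw [Subgroup.orderOf_coe, hx]) a)
    (not_fix_of_orderOf hα (g := (x : G)) (by rw [Subgroup.orderOf_coe, hx]) b)
  exact ⟨(x : G) ^ i, by rw [Subgroup.smul_def, SubgroupClass.coe_zpow, Equiv.Perm.smul_def, hi]⟩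

/-- Galois: a solvable transitive group of prime degree has a normal Sylow `p`-subgroup. -/
theorem normal_of_solvable [IsPretransitive G α] (hsol : Group.IsSolvable G) (P : Sylow p G)
    (hP : Nat.card (P : Subgroup G) = p) : (P : Subgroup G).Normal := by
  classical
  obtain ⟨a⟩ : Nonempty α := Fintype.card_pos_iff.1 (hα ▸ hp.out.pos)
  have hne : (⊤ : Subgroup G) ≠ ⊥ := by
    intro h
    have h2 : Nat.card (P : Subgroup G) ≤ Nat.card (⊤ : Subgroup G) := card_le_of_le le_top
    rw [hP, h, card_bot] at h2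
    exact absurd h2 (not_le.mpr hp.out.one_lt)
  obtain ⟨n, hn⟩ := hsol.solvable
  have hex : ∃ m, derivedSeries G m = ⊥ := ⟨n, hn⟩
  obtain ⟨m, hm⟩ : ∃ m, Nat.find hex = m + 1 := by
    refine Nat.exists_eq_succ_of_ne_zero fun h0 => hne ?_
    rw [← derivedSeries_zero, ← h0]; exact Nat.find_spec hex
  set K := derivedSeries G m with hK
  have hKne : K ≠ ⊥ := Nat.find_min hex (by omega)
  have hKn : K.Normal := derivedSeries_normal G m
  have hKc : ∀ x ∈ K, ∀ y ∈ K, x * y = y * x := fun x hx y hy => by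
    have h := commutator_mem_commutator hx hy
    rw [← derivedSeries_succ, ← hm, Nat.find_spec hex, mem_bot, commutatorElement_def] at h
    exact (commutatorElement_eq_one_iff_mul_comm.mp (by rw [commutatorElement_def]; exact h))
  have : IsPreprimitive G α := IsPreprimitive.of_prime_card (by
    rw [Nat.card_eq_fintype_card, hα]; exact hp.out)
  have hKt : IsPretransitive K α := by
    refine IsQuasiPreprimitive.isPretransitive_of_normal fun h => hKne ?_
    rw [eq_bot_iff_forall]
    intro k hk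
    refine Subtype.ext (Equiv.ext fun b => ?_)
    exact (Set.eq_univ_iff_forall.mp h b) ⟨k, hk⟩
  have hKst : stabilizer K a = ⊥ := by
    rw [eq_bot_iff_forall]
    intro k hk
    refine Subtype.ext (Subtype.ext (Equiv.ext fun b => ?_))
    obtain ⟨l, rfl⟩ := exists_smul_eq K a b
    show (k : K) • l • a = l • a
    rw [smul_smul, show k * l = l * k from Subtype.ext (hKc _ k.2 _ l.2), mul_smul, hk]
  have hKcard : Nat.card K = p := by
    rw [← hα, ← Nat.card_eq_fintype_card, ← index_stabilizer_of_transitive K a, hKst, index_bot]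
  have hle : K ≤ P := by
    have h := (IsPGroup.of_card (n := 1) (by rw [pow_one]; exact hKcard)).to_sup_of_normal_left
      (K := (P : Subgroup G)) P.isPGroup'
    exact le_sup_left.trans (P.is_maximal' h le_sup_right).le
  rw [← eq_of_le_of_card_ge hle (by rw [hP, hKcard])]
  exact hKn

theorem card_centralizer (hp2 : 2 < p) (P : Sylow p G)
    (hN : Nat.card (normalizer ((P : Subgroup G) : Set G)) = 2 * p) :
    Nat.card (centralizer ((P : Subgroup G) : Set G)) = p := by
  classical
  have hP := card_sylow hα hp2 P hN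
  have := pretransitive hα hp2 P hN
  have hle : centralizer ((P : Subgroup G) : Set G) ≤ normalizer ((P : Subgroup G) : Set G) :=
    centralizer_le_normalizer _
  have : Fact (Nat.card (P : Subgroup G)).Prime := ⟨hP.symm ▸ hp.out⟩
  have hPc : (P : Subgroup G) ≤ centralizer ((P : Subgroup G) : Set G) := by
    have := isCyclic_of_prime_card hP
    intro x hx y hy
    exact congrArg Subtype.val (IsMulCommutative.is_comm.comm (⟨y, hy⟩ : (P : Subgroup G)) ⟨x, hx⟩)
  have h1 : p ∣ Nat.card (centralizer ((P : Subgroup G) : Set G)) :=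
    hP.symm.dvd.trans (card_dvd_of_le hPc)
  have h2 : Nat.card (centralizer ((P : Subgroup G) : Set G)) ∣ 2 * p := hN ▸ card_dvd_of_le hle
  obtain ⟨k, hk⟩ := h1
  have hk2 : k ∣ 2 := Nat.dvd_of_mul_dvd_mul_left hp.out.pos (by rw [← hk, mul_comm p 2]; exact h2)
  rcases (Nat.dvd_prime Nat.prime_two).1 hk2 with rfl | rfl
  · rw [hk, mul_one]
  exfalso
  -- an involution centralising a regular cycle would be trivial
  have : Fact (Nat.Prime 2) := ⟨Nat.prime_two⟩
  obtain ⟨u, hu⟩ := exists_prime_orderOf_dvd_card'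
    (G := centralizer ((P : Subgroup G) : Set G)) 2 (by rw [hk]; exact dvd_mul_left 2 p)
  obtain ⟨x, hx⟩ := exists_prime_orderOf_dvd_card' (G := (P : Subgroup G)) p hP.symm.dvd
  have hu2 : orderOf (((u : G)) : Equiv.Perm α) = 2 := by
    rw [Subgroup.orderOf_coe, Subgroup.orderOf_coe, hu]
  have hx2 : orderOf (((x : G)) : Equiv.Perm α) = p := by
    rw [Subgroup.orderOf_coe, Subgroup.orderOf_coe, hx]
  obtain ⟨a, ha⟩ : ∃ a, (((u : G)) : Equiv.Perm α) a = a := by
    refine Equiv.Perm.exists_fixed_point_of_prime (p := 2) (n := 1) ?_ ?_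
    · rw [hα]; exact fun h => by
        have := (Nat.prime_dvd_prime_iff_eq Nat.prime_two hp.out).mp h; omega
    · rw [pow_one, ← hu2]; exact pow_orderOf_eq_one _
  have hsc := Equiv.Perm.isCycle_of_prime_order' (by rw [hx2]; exact hp.out)
    (by rw [hx2, hα]; omega)
  have hcomm : Commute (((x : G)) : Equiv.Perm α) (((u : G)) : Equiv.Perm α) :=
    congrArg Subtype.val (u.2 (x : G) x.2)
  have : (((u : G)) : Equiv.Perm α) = 1 := Equiv.ext fun b => by
    obtain ⟨i, hi⟩ := hsc.exists_zpow_eq
      (not_fix_of_orderOf hα (g := (x : G)) (by rw [Subgroup.orderOf_coe, hx]) a)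
      (not_fix_of_orderOf hα (g := (x : G)) (by rw [Subgroup.orderOf_coe, hx]) b)
    rw [Equiv.Perm.one_apply, ← hi, ← Equiv.Perm.mul_apply, ← (hcomm.zpow_left i).eq,
      Equiv.Perm.mul_apply, ha]
  rw [this, orderOf_one] at hu2
  exact absurd hu2 (by norm_num)

end Cfsg.Agent.Fg24.PrimeTwoP
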